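import Groth.Prelude.Def_KDet
import Groth.Prelude.Def_Dual3
import Groth.Agent.Dual.H375.SmoothDim
import Groth.Agent.AlgSp.K616.DimInv
import Groth.Agent.S2873
import Groth.Agent.Ega4dA.FibPair1
import Groth.Agent.ProjDual.K271.PnSubDepth
import Groth.Agent.Divis.StalkMod
import Groth.Agent.PerfA.CohSerre
import Groth.Agent.Sga2.LefLine
import Groth.Agent.Fdesc.LocGenPullback
import Groth.Agent.CanPar.K795.FibreRank
import Groth.Agent.Desc.FinLocFreeSections
import Groth.Agent.FormalB.PullCoh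

/-!
# Isomorphisms of invertible modules extend over codimension two in the fibres of a smooth morphism
-/

set_option autoImplicit false
universe u

open CategoryTheory CategoryTheory.Limits AlgebraicGeometry TopologicalSpace

namespace K271.DepthExt

open Groth.Agent

theorem two_le_of_add {a : WithBot ℕ∞} {n : ℕ} {c : ℕ∞} (hc : c ≤ n)
    (h : ((n + 2 : ℕ) : WithBot ℕ∞) = a + (c : WithBot ℕ∞)) : (2 : WithBot ℕ∞) ≤ a := by
  induction a with
  | bot => exact absurd h (by rw [WithBot.bot_add]; exact WithBot.coe_ne_bot)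
  | coe a =>
    have h1 : ((n + 2 : ℕ) : ℕ∞) = a + c := WithBot.coe_injective h
    have h2 : ((n + 2 : ℕ) : ℕ∞) ≤ a + n := h1.le.trans (add_le_add le_rfl hc)
    have h3 : (2 : ℕ∞) ≤ a := by
      rw [Nat.cast_add, add_comm] at h2
      exact (ENat.add_le_add_iff_right (ENat.natCast_ne_top n)).1 h2
    exact WithBot.coe_le_coe.mpr h3

variable {V Y : Scheme.{u}} (pr : V ⟶ Y) [Smooth pr]

/-- The fibre depth of an invertible module at a point of codimension at least two in its fibre. -/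
theorem two_le_fiberDepth (D : V.Modules) (hD : PicF.IsInvertible D) (v : V)
    (hv : ∃ n : ℕ, FlatMor.fibreDimAt pr v = ((n + 2 : ℕ) : WithBot ℕ∞) ∧ Dual3.resTrdeg pr v ≤ n) :
    (2 : ℕ∞) ≤ CInt.fiberDepth pr D v := by
  obtain ⟨n, h1, h2⟩ := hv
  have h3 := K616.DimInv.fibreDimAt_eq_add pr v
  rw [h1] at h3
  have h4 : Cardinal.toENat (Dual3.resTrdeg pr v) ≤ (n : ℕ∞) := by
    have := Cardinal.toENat_le_natCast.2 h2
    exact this
  have h5 : (2 : WithBot ℕ∞) ≤ ringKrullDim (CInt.fiberStalk pr v) := two_le_of_add h4 h3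
  rw [← Ega4dA.FibPair1.depth_fiberStalk] at h5
  have h6 : (2 : ℕ∞) ≤ LocCoh.depth (CInt.fiberStalk pr v) (CInt.fiberStalk pr v) :=
    WithBot.coe_le_coe.mp h5
  refine h6.trans ?_
  have hDf := Fdesc.LocGen.isInvertible_pullback (pr.fiberι (pr v)) hD
  have hfree := Divis.StalkMod.finite_free_stalk (PerfA.CohSerre.isCoh_of_isFinLocFree
    (Sga2.LefLine.isFinLocFree_of_isInvertible hDf)).1 (Sga2.LefLine.isFinLocFree_of_isInvertible hDf) (pr.asFiber v)
  have := hfree.2
  exact K271.PnSubDepth.depth_self_le_of_flat (CInt.fiberStalk pr v) _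

/-- An invertible module is the direct image of its restriction. -/
theorem isIso_unit (Z : Closeds V) (hZ : ∀ v : V, v ∈ Z → ∃ n : ℕ, FlatMor.fibreDimAt pr v = ((n + 2 : ℕ) : WithBot ℕ∞) ∧
      Dual3.resTrdeg pr v ≤ n) (D : V.Modules) (hD : PicF.IsInvertible D) :
    IsIso ((Scheme.Modules.restrictAdjunction (Scheme.Opens.ι (Z.compl : V.Opens))).unit.app D) := by
  have hD' := Sga2.LefLine.isFinLocFree_of_isInvertible hD
  have hc := PerfA.CohSerre.isCoh_of_isFinLocFree hD'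
  have h := (Groth.Agent.S2873.result pr Z D hc.1 (Desc.FinLocFreeSections.isFP_of_isFinLocFree hD')
    (K795.FibreRank.isFlatOver_of_isFinLocFree pr hD') (Coh.structureModule Y)
    (Fdesc.StructMod.isCoh_structureModule Y).1).2 (fun v hv => two_le_fiberDepth pr D hD v (hZ v hv))
  let e : CohB1.tensorMod D ((Scheme.Modules.pullback pr).obj (Coh.structureModule Y)) ≅ D :=
    (DCoh.tensorBi.obj D).mapIso (FormalB.PullCoh.pullbackUnitIso pr) ≪≫ Ega2.Tens.runit D
  exact (NatTrans.isIso_app_iff_of_iso _ e).1 h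

theorem nonempty_iso_push_of_isIso {W : Scheme.{u}} (j : W ⟶ V) [IsOpenImmersion j] (D : V.Modules)
    (h : IsIso ((Scheme.Modules.restrictAdjunction j).unit.app D)) :
    Nonempty (D ≅ (Scheme.Modules.pushforward j).obj ((Scheme.Modules.pullback j).obj D)) :=
  ⟨(@asIso _ _ _ _ ((Scheme.Modules.restrictAdjunction j).unit.app D) h) ≪≫
    (Scheme.Modules.pushforward j).mapIso ((Scheme.Modules.restrictFunctorIsoPullback j).app D)⟩

theorem nonempty_iso_push (Z : Closeds V) (hZ : ∀ v : V, v ∈ Z → ∃ n : ℕ, FlatMor.fibreDimAt pr v = ((n + 2 : ℕ) : WithBot ℕ∞) ∧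
      Dual3.resTrdeg pr v ≤ n) (D : V.Modules) (hD : PicF.IsInvertible D) :
    Nonempty (D ≅ (Scheme.Modules.pushforward (Scheme.Opens.ι (Z.compl : V.Opens))).obj
      ((Scheme.Modules.pullback (Scheme.Opens.ι (Z.compl : V.Opens))).obj D)) :=
  nonempty_iso_push_of_isIso _ D (isIso_unit pr Z hZ D hD)

theorem nonempty_iso_of_restrict [IsLocallyNoetherian Y]
    (U : V.Opens) (hU : ∀ v : V, v ∉ U → ∃ n : ℕ, FlatMor.fibreDimAt pr v = ((n + 2 : ℕ) : WithBot ℕ∞) ∧
      Dual3.resTrdeg pr v ≤ n)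
    (D D' : V.Modules) (hD : PicF.IsInvertible D) (hD' : PicF.IsInvertible D')
    (e : Nonempty ((Scheme.Modules.pullback U.ι).obj D ≅ (Scheme.Modules.pullback U.ι).obj D')) :
    Nonempty (D ≅ D') := by
  obtain ⟨Z, rfl⟩ : ∃ Z : Closeds V, U = Z.compl := ⟨U.compl, (Opens.compl_compl U).symm⟩
  obtain ⟨e⟩ := e
  obtain ⟨e1⟩ := nonempty_iso_push pr Z (fun v hv => hU v (fun h => h hv)) D hD
  obtain ⟨e2⟩ := nonempty_iso_push pr Z (fun v hv => hU v (fun h => h hv)) D' hD'
  exact ⟨e1 ≪≫ (Scheme.Modules.pushforward _).mapIso e ≪≫ e2.symm⟩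

end K271.DepthExt
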