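import Groth.Prelude.Def_KDet
import Groth.Prelude.Def_ClSub2
import Groth.Agent.Sga67.LocBasis
import Groth.Agent.Fdesc.LocGenPullback
import Groth.Agent.Dcoh.DualFLF
import Groth.Agent.Dcoh.MonPull292
import Groth.Agent.VBCurve.K708.Dual
import Groth.Agent.VarietyB.ExactLoc
import Groth.Agent.Dcoh.MonTm

/-!
# The transpose of an epimorphism `π^* G ⟶ L` is fibrewise nonzero
-/

set_option autoImplicit false
universe u

open CategoryTheory CategoryTheory.Limits AlgebraicGeometry TopologicalSpace Opposite MonoidalCategory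
open Groth.Agent Groth.Agent.Fdesc.LocGen

namespace K271.DualMap

open scoped Groth.Agent.Dcoh.MonCat
open Groth.Agent.Dcoh.MonTm

variable {X Y : Scheme.{u}}

/-- If `M ⊗ P ⟶ Q ⊗ P ⟶ O` is an epimorphism, then the coordinates of the image in `Q` of a generator of `M`
have no common zero. -/
theorem exists_mem_basicOpen {M P Q : X.Modules} (m : M ⟶ Q) (ev : Q ⊗ P ⟶ 𝟙_ X.Modules)
    (hep : Epi (m ▷ P ≫ ev)) {U : X.Opens} {n : ℕ} (μ : Γ(M, U)) (hμ : IsGen μ) (e : Fin n → Γ(Q, U))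
    (f : Fin n → Γ(X, U)) (hf : m.app U μ = ∑ j, f j • e j) (x : X) (hx : x ∈ U) :
    ∃ j, x ∈ X.basicOpen (f j) := by
  obtain ⟨V, hVU, hxV, t, ht⟩ := VarietyB.ExactLoc.exists_lift_of_epi (m ▷ P ≫ ev)
    (cs (1 : Γ(X, U))) hx
  obtain ⟨V', i, hxV', r, a, g, hs⟩ := exists_sum_tm t hxV
  have hV'U : V' ≤ U := i.le.trans hVU
  have hc := fun k => (hμ.res hV'U).exists_eq (a k)
  choose c hc using hc
  have h1 : (m ▷ P ≫ ev).app V' (∑ k, tm (a k) (g k)) = cs (1 : Γ(X, V')) := by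
    rw [← hs]
    have h2 : (m ▷ P ≫ ev).app V' ((M ⊗ P).presheaf.map i.op t) =
        res (𝟙_ X.Modules) i.le ((m ▷ P ≫ ev).app V t) := app_res (m ▷ P ≫ ev) i.le t
    rw [h2, ht]
    have h3 : res (𝟙_ X.Modules) i.le (res (𝟙_ X.Modules) hVU (cs (1 : Γ(X, U)))) =
        res (𝟙_ X.Modules) hV'U (cs (1 : Γ(X, U))) := res_res _ _ _ _
    refine h3.trans ?_
    exact congrArg cs (map_one (X.presheaf.map (homOfLE hV'U).op).hom)
  have h4 : ∀ k, (m ▷ P ≫ ev).app V' (tm (a k) (g k)) =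
      ∑ j, c k • (ores hV'U (f j) • ev.app V' (tm (res Q hV'U (e j)) (g k))) := by
    intro k
    rw [comp_ap, whiskerRight_tm, hc k, Scheme.Modules.Hom.app_smul, app_res, hf]
    have h5 : res Q hV'U (∑ j, f j • e j) = ∑ j, ores hV'U (f j) • res Q hV'U (e j) := by
      rw [map_sum]
      exact Finset.sum_congr rfl fun j _ => res_smul _ _ _ _
    rw [h5, smul_tm, sum_tm, Scheme.Modules.Hom.app_smul, map_sum, Finset.smul_sum]
    refine Finset.sum_congr rfl fun j _ => ?_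
    rw [smul_tm, Scheme.Modules.Hom.app_smul]
  rw [map_sum, Finset.sum_congr rfl fun k _ => h4 k] at h1
  have h6 : (1 : Γ(X, V')) = ∑ k, ∑ j, c k * (ores hV'U (f j) *
      sc (ev.app V' (tm (res Q hV'U (e j)) (g k)))) := h1.symm
  by_contra hcon
  push Not at hcon
  have h7 : ∀ j, X.presheaf.germ V' x hxV' (ores hV'U (f j)) ∈
      IsLocalRing.maximalIdeal (X.presheaf.stalk x) := by
    intro j
    rw [IsLocalRing.mem_maximalIdeal, mem_nonunits_iff]
    intro hu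
    refine hcon j ((Scheme.mem_basicOpen X (f j) x hx).2 ?_)
    have : X.presheaf.germ V' x hxV' (ores hV'U (f j)) = X.presheaf.germ U x hx (f j) :=
      TopCat.Presheaf.germ_res_apply _ _ _ _ _
    rw [← this]
    exact hu
  have h8 := congrArg (X.presheaf.germ V' x hxV') h6
  rw [map_one, map_sum] at h8
  have h9 : (1 : X.presheaf.stalk x) ∈ IsLocalRing.maximalIdeal (X.presheaf.stalk x) := by
    rw [h8]
    refine Ideal.sum_mem _ fun k _ => ?_
    rw [map_sum]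
    refine Ideal.sum_mem _ fun j _ => ?_
    rw [map_mul, map_mul]
    exact Ideal.mul_mem_left _ _ (Ideal.mul_mem_right _ _ (h7 j))
  exact (Ideal.ne_top_iff_one _).1 (IsLocalRing.maximalIdeal.isMaximal _).ne_top h9

section Abstract

variable {C : Type*} [Category* C] [MonoidalCategory C]

/-- The transpose of `M ⊗ P ⟶ 𝟙`. -/
theorem exists_transpose (M P Q : C) [ExactPairing P Q] (t : M ⊗ P ⟶ 𝟙_ C) :
    ∃ (m : M ⟶ Q) (ev : Q ⊗ P ⟶ 𝟙_ C), t = m ▷ P ≫ ev := by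
  refine ⟨tensorRightHomEquiv M P Q (𝟙_ C) t ≫ (λ_ Q).hom, ε_ P Q, ?_⟩
  have h := (tensorRightHomEquiv M P Q (𝟙_ C)).symm_apply_apply t
  generalize tensorRightHomEquiv M P Q (𝟙_ C) t = φ at h ⊢
  subst h
  simp only [tensorRightHomEquiv, Equiv.coe_fn_symm_mk, MonoidalCategory.comp_whiskerRight,
    leftUnitor_whiskerRight, Category.assoc]
  rw [← unitors_equal, leftUnitor_naturality]

end Abstract

theorem exists_dual_map (π : X ⟶ Y) (L M : X.Modules) (hL : PicF.IsInvertible L)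
    (hM : PicF.IsInvertible M) (hLM : ClSub.IsInverseOf L M) (G : Y.Modules) (hG : FlatMod.IsFinLocFree G)
    (q : (Scheme.Modules.pullback π).obj G ⟶ L) (hq : Epi q) :
    ∃ (G' : Y.Modules) (_ : FlatMod.IsFinLocFree G') (m : M ⟶ (Scheme.Modules.pullback π).obj G'),
      ∀ (W : Y.Opens) (n : ℕ) (b : Fin n → Γ(G', W)) (_ : Sga67.LocBasis.IsLocBasis (M := G') b)
        (U : X.Opens) (hUW : U ≤ π ⁻¹ᵁ W) (μ : Γ(M, U)) (_ : IsGen μ) (f : Fin n → Γ(X, U))
        (_ : m.app U μ = ∑ j, f j • Fdesc.LocGen.res ((Scheme.Modules.pullback π).obj G') hUW (pullSec π (b j)))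
        (x : X) (_ : x ∈ U), ∃ j, x ∈ X.basicOpen (f j) := by
  obtain ⟨G', ⟨hp⟩⟩ := Dcoh.DualFLF.exists_exactPairing hG
  letI := Dcoh.MonPull.monPull π
  letI := Dcoh.MonDual.mapExactPairing (Scheme.Modules.pullback π) G G'
  obtain ⟨e⟩ := hLM
  let e' : M ⊗ L ≅ 𝟙_ X.Modules := β_ M L ≪≫ e
  let t : M ⊗ (Scheme.Modules.pullback π).obj G ⟶ 𝟙_ X.Modules := M ◁ q ≫ e'.hom
  have h1 : Epi (M ◁ q) := (tensorLeft M).map_epi q
  have ht : Epi t := epi_comp _ _
  obtain ⟨m, ev, hm⟩ := exists_transpose M ((Scheme.Modules.pullback π).obj G)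
    ((Scheme.Modules.pullback π).obj G') t
  rw [hm] at ht
  exact ⟨G', Dcoh.DualFLF.isFinLocFree_dual hG G', m, fun W n b _ U hUW μ hμ f hf x hx =>
    exists_mem_basicOpen m ev ht μ hμ _ f hf x hx⟩

end K271.DualMap
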